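import Cfsg.Agent.Lib.MaxCentralizer.NonNormal

/-!
# Maximal centralizers: an abelian non-normal centralizer gives a Frobenius group
-/

set_option autoImplicit false

open Subgroup
open scoped Pointwise

namespace Cfsg.Agent.MaxCentralizer

universe u

variable {G : Type u} [Group G] {N : Subgroup G} [N.Normal] [Finite G]

theorem conjN_eq_conj (a : N) (z : N) : conjN (a : G) z = a * z * a⁻¹ :=
  Subtype.ext (by rw [conjN_coe]; rfl)

theorem act_eq_conj (a : N) (z : N ⧸ center N) : act (a : G) z = (a : N ⧸ center N) * z * (a : N ⧸ center N)⁻¹ := by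
  induction z using QuotientGroup.induction_on with
  | H z => rw [act_mk, conjN_eq_conj]; rfl

theorem conjN_mem_iff {a : N} {x y : N} : a * y * a⁻¹ ∈ cN (a * x * a⁻¹) ↔ y ∈ cN x := by
  rw [← conjN_eq_conj, ← conjN_eq_conj, mem_cN_conjN]

theorem mem_of_act_mem {S : Subgroup (N ⧸ center N)} {g : G} (hg : ∀ z ∈ S, act g z ∈ S) {j : N ⧸ center N}
    (hj : act g j ∈ S) : j ∈ S := by
  have hinj : Function.Injective fun z : S => (⟨act g z, hg z z.2⟩ : S) :=
    fun a b hab' => Subtype.ext ((act g).injective (congrArg Subtype.val hab'))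
  obtain ⟨a, ha⟩ := Finite.surjective_of_injective hinj ⟨act g j, hj⟩
  exact (act g).injective (congrArg Subtype.val ha) ▸ a.2

variable {p : ℕ} [hp : Fact p.Prime] {x : N}

theorem eq_of_mem_abelian (h : Hyp N) (hx : x ∉ center N) (hxp : IsPElt p x) (hn : ¬ (cN x).Normal)
    (hab : ∀ a ∈ cN x, ∀ b ∈ cN x, a * b = b * a) {y : N} (hy : y ∈ cN x) (hyc : y ∉ center N) :
    cN y = cN x := by
  obtain ⟨s, hs, y', hy', hy'c, hy's, e⟩ := h.exists_primary_eq hyc
  rw [cN_congr e]
  have hy'x : y' ∈ cN x := zpowers_le.2 hy hy'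
  by_cases hsp : s = p
  · subst hsp
    have hcomm : ∀ w ∈ cN x, w ∈ cN y' := fun w hw => mem_centralizer_singleton_iff.2 (hab w hw y' hy'x)
    by_cases hm : PMod s (cN x)
    · by_cases hm' : PMod s (cN y')
      · exact eq_of_pMod_le h hx hn hm hcomm hm'
      · simp only [PMod, not_forall] at hm'
        obtain ⟨q, hq, hqp, w, hw, hwq, hwc⟩ := hm'
        have e1 := h.eq_of_primes hp.out hq (Ne.symm hqp) hy'c hwc hy's hwq hw
        have hxw : x ∈ cN w := cN_congr e1 ▸ hcomm x (self_mem_cN x)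
        have e2 := h.eq_of_primes hp.out hq (Ne.symm hqp) hx hwc hxp hwq (cN_symm hxw)
        exact cN_congr (e1.trans e2.symm)
    · simp only [PMod, not_forall] at hm
      obtain ⟨q, hq, hqp, w, hw, hwq, hwc⟩ := hm
      have e1 := h.eq_of_primes hp.out hq (Ne.symm hqp) hx hwc hxp hwq hw
      have e2 := h.eq_of_primes hp.out hq (Ne.symm hqp) hy'c hwc hy's hwq (hcomm w hw)
      exact cN_congr (e2.trans e1.symm)
  · exact (cN_congr (h.eq_of_primes hp.out hs (Ne.symm hsp) hx hy'c hxp hy's hy'x)).symm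

theorem isFrobeniusComplement_bar (h : Hyp N) (hx : x ∉ center N) (hxp : IsPElt p x) (hn : ¬ (cN x).Normal)
    (hab : ∀ a ∈ cN x, ∀ b ∈ cN x, a * b = b * a) : Cfsg.IsFrobeniusComplement (bar (cN x)) := by
  refine ⟨fun e => hx ?_, fun e => ne_top_of_nc hx ?_, fun a ha => ?_⟩
  · have := mem_bar (self_mem_cN x)
    rw [e, mem_bot] at this
    exact (QuotientGroup.eq_one_iff x).1 this
  · exact eq_top_iff.2 fun b _ => mem_of_bar (center_le_cN x) (e ▸ mem_top _)
  · induction a using QuotientGroup.induction_on with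
    | H a =>
      refine eq_bot_iff.2 fun z hz => ?_
      obtain ⟨hz1, hz2⟩ := hz
      replace hz2 := Frobenius.mem_conj_smul.1 hz2
      obtain ⟨y, hy, rfl⟩ := hz1
      rw [mem_bot]
      refine (QuotientGroup.eq_one_iff y).2 ?_
      by_contra hyc
      have hl : a⁻¹ * y * a ∈ cN x := mem_of_bar (center_le_cN x) hz2
      have hlc : a⁻¹ * y * a ∉ center N := fun hc => hyc (by
        have := (inferInstance : (center N).Normal).conj_mem _ hc a
        simpa [mul_assoc] using this)
      have e1 := eq_of_mem_abelian h hx hxp hn hab hy hyc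
      have e2 := eq_of_mem_abelian h hx hxp hn hab hl hlc
      refine ha (mem_bar ?_)
      rw [← normalizer_cN h hx hn, mem_normalizer_iff]
      intro w
      conv_lhs => rw [← e2]
      rw [← conjN_mem_iff (a := a)]
      rw [show a * (a⁻¹ * y * a) * a⁻¹ = y by group, e1]

/-- An abelian non-normal centralizer: `N / Z(N)` is a Frobenius group with a complement of prime order and an
elementary abelian kernel which has no proper invariant subgroup. -/
theorem frobenius_of_abelian (h : Hyp N) (hx : x ∉ center N) (hxp : IsPElt p x) (hn : ¬ (cN x).Normal)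
    (hab : ∀ a ∈ cN x, ∀ b ∈ cN x, a * b = b * a) :
    Cfsg.IsFrobeniusComplement (bar (cN x)) ∧ (Nat.card (bar (cN x))).Prime ∧
      ∃ (K : Subgroup (N ⧸ center N)) (r : ℕ), r.Prime ∧ K.Normal ∧
        (K : Set (N ⧸ center N)) = Cfsg.frobeniusKernel (bar (cN x)) ∧ K.IsComplement' (bar (cN x)) ∧
        Cfsg.IsElementaryAbelian r K ∧
        ∀ R ≤ K, (∀ g ∈ cG x, ∀ z ∈ R, act g z ∈ R) → R = ⊥ ∨ R = K := by
  have hF := isFrobeniusComplement_bar h hx hxp hn hab
  set L := bar (cN x) with hL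
  set π := QuotientGroup.mk' (center N) with hπ
  set K := Frobenius.frobKernel hF with hK
  have hKn : K.Normal := Frobenius.frobKernel_normal hF
  have hKcoe : (K : Set (N ⧸ center N)) = Cfsg.frobeniusKernel L := Frobenius.coe_frobKernel hF
  have hc : K.IsComplement' L := Frobenius.frobKernel_isComplement hF
  have hactL : ∀ g ∈ cG x, ∀ z ∈ L, act g z ∈ L := by
    rintro g hg _ ⟨y, hy, rfl⟩
    exact mem_bar (conjN_mem_cN x hg hy)
  have hactK : ∀ g ∈ cG x, ∀ z ∈ K, act g z ∈ K := by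
    intro g hg z hz
    rw [← SetLike.mem_coe, hKcoe, Frobenius.mem_kernel_iff] at hz ⊢
    rcases hz with rfl | hz
    · exact Or.inl (map_one _)
    · refine Or.inr fun b hb => ?_
      obtain ⟨b, rfl⟩ := (act g).surjective b
      rw [← map_inv, ← map_mul, ← map_mul] at hb
      exact hz b (mem_of_act_mem (hactL g hg) hb)
  refine ⟨hF, ?_⟩
  have hmin : ∀ R ≤ K, (∀ g ∈ cG x, ∀ z ∈ R, act g z ∈ R) → R = ⊥ ∨ R = K := by
    intro R hR hinv
    rcases eq_or_eq_top h hx (R := (L ⊔ R).comap π) (fun z hz => mem_sup_left (mem_bar hz))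
      (fun g hg r hr => by
        show act g (r : N ⧸ center N) ∈ L ⊔ R
        have hle : L ⊔ R ≤ (L ⊔ R).comap (act g).toMonoidHom :=
          sup_le (fun z hz => mem_sup_left (hactL g hg z hz)) (fun z hz => mem_sup_right (hinv g hg z hz))
        exact hle hr) with e | e
    · left
      refine eq_bot_iff.2 fun z hz => ?_
      obtain ⟨z, rfl⟩ := QuotientGroup.mk_surjective z
      have : z ∈ cN x := e ▸ (mem_sup_right hz : z ∈ (L ⊔ R).comap π)
      exact disjoint_def.1 hc.disjoint (hR hz) (mem_bar this)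
    · right
      refine le_antisymm hR fun k hk => ?_
      have hLR : L ≤ normalizer (R : Set (N ⧸ center N)) := by
        rintro _ ⟨l, hl, rfl⟩
        rw [mem_normalizer_iff]
        intro z
        refine ⟨fun hz => act_eq_conj l z ▸ hinv (l : G) (mem_cN_iff.1 hl) z hz, fun hz => ?_⟩
        have h1 := hinv ((l⁻¹ : N) : G) (mem_cN_iff.1 ((cN x).inv_mem hl)) _ hz
        rw [act_eq_conj] at h1
        simpa [mul_assoc] using h1
      have hmem : k ∈ ((L ⊔ R : Subgroup (N ⧸ center N)) : Set (N ⧸ center N)) := by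
        obtain ⟨k, rfl⟩ := QuotientGroup.mk_surjective k
        exact (e ▸ mem_top k : k ∈ (L ⊔ R).comap π)
      rw [coe_mul_of_left_le_normalizer_right L R hLR] at hmem
      obtain ⟨l, hl, r, hr, rfl⟩ := hmem
      have hlK : l ∈ K := by
        have := K.mul_mem hk (K.inv_mem (hR hr))
        simpa using this
      have hl1 := disjoint_def.1 hc.disjoint hlK hl
      show l * r ∈ R
      rw [hl1, one_mul]
      exact hr
  -- the kernel is elementary abelian
  have : Group.IsNilpotent K := FPF.isNilpotent_frobKernel hF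
  have : Nontrivial K := K.nontrivial_iff_ne_bot.2 (Frobenius.frobKernel_ne_bot hF)
  have hZne : Nontrivial (center K) := (center K).nontrivial_iff_ne_bot.2 (Group.IsNilpotent.center_ne_bot K)
  obtain ⟨r, hr, hrd⟩ := Nat.exists_prime_and_dvd (show Nat.card (center K) ≠ 1 from Finite.one_lt_card.ne')
  have := Fact.mk hr
  let R : Subgroup (N ⧸ center N) :=
    { carrier := {z | z ∈ K ∧ z ^ r = 1 ∧ ∀ j ∈ K, z * j = j * z}
      one_mem' := ⟨one_mem _, one_pow _, fun j _ => by simp⟩
      mul_mem' := fun {a b} ha hb => ⟨mul_mem ha.1 hb.1, by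
        rw [(show Commute a b from ha.2.2 b hb.1).mul_pow, ha.2.1, hb.2.1, one_mul],
        fun j hj => ((show Commute a j from ha.2.2 j hj).mul_left (hb.2.2 j hj)).eq⟩
      inv_mem' := fun {a} ha => ⟨inv_mem ha.1, by rw [inv_pow, ha.2.1, inv_one],
        fun j hj => ((show Commute a j from ha.2.2 j hj).inv_left).eq⟩ }
  have hRK : R = K := by
    refine ((hmin R (fun z hz => hz.1) fun g hg z hz => ⟨hactK g hg z hz.1, by rw [← map_pow, hz.2.1, map_one],
      fun j hj => ?_⟩).resolve_left ?_)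
    · obtain ⟨j, rfl⟩ := (act g).surjective j
      have hjK : j ∈ K := mem_of_act_mem (hactK g hg) hj
      rw [← map_mul, ← map_mul, hz.2.2 j hjK]
    · intro e
      obtain ⟨z, hz⟩ := exists_prime_orderOf_dvd_card' (G := center K) r hrd
      have hzR : ((z : K) : N ⧸ center N) ∈ R := ⟨(z : K).2,
        by rw [← hz, ← orderOf_coe z, ← orderOf_coe (z : K)]; exact pow_orderOf_eq_one _,
        fun j hj => (congrArg Subtype.val (mem_center_iff.1 z.2 ⟨j, hj⟩)).symm⟩
      rw [e, mem_bot] at hzR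
      have : z = 1 := Subtype.ext (Subtype.ext hzR)
      rw [this, orderOf_one] at hz
      exact hr.ne_one hz.symm
  have hel : Cfsg.IsElementaryAbelian r K :=
    ⟨⟨⟨fun a b => Subtype.ext ((hRK.ge a.2).2.2 b b.2)⟩⟩,
      fun a ha => (hRK.ge ha).2.1⟩
  have hKab : ∀ a ∈ K, ∀ b ∈ K, a * b = b * a := fun a ha b hb =>
    congrArg Subtype.val (hel.1.is_comm.comm ⟨a, ha⟩ ⟨b, hb⟩)
  refine ⟨?_, K, r, hr, hKn, hKcoe, hc, hel, hmin⟩
  -- the complement has prime order
  obtain ⟨kk, hkk, hkk1⟩ := K.ne_bot_iff_exists_ne_one.1 (Frobenius.frobKernel_ne_bot hF) |> fun ⟨a, ha⟩ =>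
    (⟨a.1, a.2, fun e => ha (Subtype.ext e)⟩ : ∃ k, k ∈ K ∧ k ≠ 1)
  obtain ⟨k, rfl⟩ := QuotientGroup.mk_surjective kk
  have hkc : k ∉ center N := fun e => hkk1 ((QuotientGroup.eq_one_iff k).2 e)
  set Kc := K.comap π with hKc
  have hcK : center N ≤ Kc := fun z hz => by
    rw [hKc, mem_comap, show π z = 1 from (QuotientGroup.eq_one_iff z).2 hz]
    exact one_mem _
  have hsub : cN k ≤ Kc := by
    intro z hz
    show (z : N ⧸ center N) ∈ K
    rw [← SetLike.mem_coe, hKcoe, Frobenius.mem_kernel_iff]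
    by_contra hno
    push Not at hno
    obtain ⟨hz1, b, hb⟩ := hno
    have hcm : Commute (z : N ⧸ center N) (k : N ⧸ center N) := by
      show _ = _
      rw [← QuotientGroup.mk_mul, ← QuotientGroup.mk_mul, mem_centralizer_singleton_iff.1 hz]
    have h2 : b⁻¹ * (k : N ⧸ center N) * b ∈ Subgroup.centralizer {b⁻¹ * (z : N ⧸ center N) * b} := by
      rw [mem_centralizer_singleton_iff]
      calc b⁻¹ * k * b * (b⁻¹ * z * b) = b⁻¹ * ((k : N ⧸ center N) * z) * b := by group
        _ = b⁻¹ * ((z : N ⧸ center N) * k) * b := by rw [hcm.eq]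
        _ = _ := by group
    have h3 := Frobenius.centralizer_le hF (fun e => hz1 (by
      have := congrArg (fun w => b * w * b⁻¹) e
      simpa [mul_assoc] using this)) hb h2
    exact hkk1 (Frobenius.eq_one_of_mem_kernel_of_mem (hKcoe ▸ hkk) h3)
  have hKact : ∀ (g : G), ∀ z ∈ K, act g z ∈ K := by
    intro g z hz
    obtain ⟨m, hm, n, hn, rfl⟩ := mem_sup_of_normal_right.1 (sup_centralizer_eq_top h hx ▸ mem_top g)
    obtain ⟨z, rfl⟩ := QuotientGroup.mk_surjective z
    have h1 : act n (z : N ⧸ center N) ∈ K := by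
      rw [show n = ((⟨n, hn⟩ : N) : G) from rfl, act_eq_conj]
      exact hKn.conj_mem _ hz _
    have h2 := hactK m hm _ h1
    convert h2 using 1
    simp only [act_mk]
    congr 1
    exact Subtype.ext (by simp [conjN_coe, mul_assoc])
  have hconjKc : ∀ a ∈ Kc, ∀ z ∈ cN k, a * z * a⁻¹ ∈ cN k := by
    intro a ha z hz
    have h1 : (a * z * a⁻¹) * z⁻¹ ∈ center N := by
      rw [← QuotientGroup.eq_one_iff]
      simp only [QuotientGroup.mk_mul, QuotientGroup.mk_inv]
      rw [hKab (a : N ⧸ center N) ha (z : N ⧸ center N) (hsub hz)]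
      group
    have := (cN k).mul_mem (center_le_cN k h1) hz
    simpa using this
  have hkeq : cN k = Kc := by
    refine le_antisymm hsub ?_
    let T : Subgroup G :=
      { carrier := {t | ∃ m ∈ cG k, ∃ a ∈ Kc, t = m * (a : G)}
        one_mem' := ⟨1, one_mem _, 1, one_mem _, by simp⟩
        mul_mem' := by
          rintro _ _ ⟨m, hm, a, ha, rfl⟩ ⟨m', hm', a', ha', rfl⟩
          refine ⟨m * m', mul_mem hm hm', conjN m'⁻¹ a * a', mul_mem (hKact _ _ ha) ha', ?_⟩
          simp [conjN_coe, mul_assoc]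
        inv_mem' := by
          rintro _ ⟨m, hm, a, ha, rfl⟩
          refine ⟨m⁻¹, inv_mem hm, conjN m a⁻¹, hKact _ _ (inv_mem ha : a⁻¹ ∈ Kc), ?_⟩
          simp [conjN_coe, mul_assoc] }
    have hMT : cG k ≤ T := fun m hm => ⟨m, hm, 1, one_mem _, by simp⟩
    rcases eq_or_lt_of_le hMT with e | e
    · intro a ha
      rw [mem_cN_iff, e]
      exact ⟨1, one_mem _, a, ha, by simp⟩
    · have hT := (h.coatom hkc).2 T e
      have hinv : ∀ g ∈ cG x, ∀ z ∈ bar (cN k), act g z ∈ bar (cN k) := by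
        rintro g - _ ⟨z, hz, rfl⟩
        obtain ⟨m, hm, a, ha, rfl⟩ : g ∈ T := hT ▸ mem_top g
        refine mem_bar (x := conjN (m * (a : G)) z) ?_
        have h1 : conjN (m * (a : G)) z = conjN m (a * z * a⁻¹) := Subtype.ext (by simp [conjN_coe, mul_assoc])
        rw [h1]
        exact conjN_mem_cN k hm (hconjKc a ha z hz)
      have hle : bar (cN k) ≤ K := by
        rintro _ ⟨z, hz, rfl⟩
        exact hsub hz
      have hKeq := (hmin _ hle hinv).resolve_left (fun e0 => hkk1 (by
        have := mem_bar (self_mem_cN k)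
        rw [e0, mem_bot] at this
        exact this))
      intro a ha
      exact mem_of_bar (center_le_cN k) (hKeq ▸ ha)
  have hLab : ∀ a ∈ L, ∀ b ∈ L, a * b = b * a := by
    rintro _ ⟨a, ha, rfl⟩ _ ⟨b, hb, rfl⟩
    rw [← map_mul, ← map_mul, hab a ha b hb]
  obtain ⟨q, hq, hqd⟩ := Nat.exists_prime_and_dvd
    (show Nat.card L ≠ 1 from fun e => hF.1 (Subgroup.card_eq_one.1 e))
  have := Fact.mk hq
  let A : Subgroup (N ⧸ center N) :=
    { carrier := {z | z ∈ L ∧ z ^ q = 1}
      one_mem' := ⟨one_mem _, one_pow _⟩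
      mul_mem' := fun {a b} ha hb => ⟨mul_mem ha.1 hb.1, by
        rw [(show Commute a b from hLab a ha.1 b hb.1).mul_pow, ha.2, hb.2, one_mul]⟩
      inv_mem' := fun {a} ha => ⟨inv_mem ha.1, by rw [inv_pow, ha.2, inv_one]⟩ }
  have hTn : (K ⊔ A).Normal := by
    refine ⟨fun z hz b => ?_⟩
    obtain ⟨k₁, hk₁, l, hl, rfl⟩ := mem_sup_of_normal_left.1 (hc.sup_eq_top.symm ▸ mem_top b)
    have h1 : l * z * l⁻¹ ∈ K ⊔ A := by
      obtain ⟨j, hj, a, ha, rfl⟩ := mem_sup_of_normal_left.1 hz
      rw [show l * (j * a) * l⁻¹ = (l * j * l⁻¹) * (l * a * l⁻¹) by group]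
      refine mul_mem (mem_sup_left (hKn.conj_mem j hj l)) (mem_sup_right ?_)
      rw [hLab l hl a ha.1, mul_inv_cancel_right]
      exact ha
    have := mul_mem (mul_mem (mem_sup_left hk₁ : k₁ ∈ K ⊔ A) h1) (mem_sup_left (inv_mem hk₁) : k₁⁻¹ ∈ K ⊔ A)
    simpa [mul_assoc] using this
  have hTact : ∀ (g : G), ∀ z ∈ K ⊔ A, act g z ∈ K ⊔ A := by
    intro g
    have hA : ∀ a ∈ A, act g a ∈ K ⊔ A := by
      intro a ha
      obtain ⟨m, hm, n, hn, rfl⟩ := mem_sup_of_normal_right.1 (sup_centralizer_eq_top h hx ▸ mem_top g)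
      have h1 : act n a ∈ K ⊔ A := by
        rw [show n = ((⟨n, hn⟩ : N) : G) from rfl, act_eq_conj]
        exact hTn.conj_mem _ (mem_sup_right ha) _
      have hle : K ⊔ A ≤ (K ⊔ A).comap (act m).toMonoidHom :=
        sup_le (fun z hz => mem_sup_left (hactK m hm z hz))
          (fun z hz => mem_sup_right ⟨hactL m hm z hz.1, by
            show (act m) z ^ q = 1
            rw [← map_pow, hz.2, map_one]⟩)
      have h2 : act m (act n a) ∈ K ⊔ A := hle h1
      obtain ⟨a, rfl⟩ := QuotientGroup.mk_surjective a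
      convert h2 using 1
      simp only [act_mk]
      congr 1
      exact Subtype.ext (by simp [conjN_coe, mul_assoc])
    intro z hz
    exact (sup_le (fun z hz => mem_sup_left (hKact g z hz)) (fun z hz => hA z hz) :
      K ⊔ A ≤ (K ⊔ A).comap (act g).toMonoidHom) hz
  rcases eq_or_eq_top h hkc (R := (K ⊔ A).comap π) (hkeq.le.trans (comap_mono le_sup_left))
    (fun g _ z hz => hTact g _ hz) with e | e
  · exfalso
    obtain ⟨a, ha⟩ := exists_prime_orderOf_dvd_card' (G := L) q hqd
    obtain ⟨b, hb⟩ := QuotientGroup.mk_surjective (a : N ⧸ center N)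
    have hbA : (b : N ⧸ center N) ∈ A := ⟨hb ▸ a.2, by rw [hb, ← ha, ← orderOf_coe]; exact pow_orderOf_eq_one _⟩
    have hbK : b ∈ cN k := e ▸ (mem_sup_right hbA : b ∈ (K ⊔ A).comap π)
    have h0 := disjoint_def.1 hc.disjoint (hsub hbK) hbA.1
    rw [← orderOf_coe, ← hb, show (b : N ⧸ center N) = 1 from h0, orderOf_one] at ha
    exact hq.ne_one ha.symm
  · have hexp : ∀ l ∈ L, l ^ q = 1 := by
      intro l hl
      have hmem : l ∈ K ⊔ A := by
        obtain ⟨l, rfl⟩ := QuotientGroup.mk_surjective l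
        exact (e ▸ mem_top l : l ∈ (K ⊔ A).comap π)
      obtain ⟨j, hj, a, ha, rfl⟩ := mem_sup_of_normal_left.1 hmem
      have : j ∈ L := by simpa using L.mul_mem hl (L.inv_mem ha.1)
      rw [disjoint_def.1 hc.disjoint hj this, one_mul]
      exact ha.2
    letI : CommGroup L := { (inferInstance : Group L) with mul_comm := fun a b => Subtype.ext (hLab a a.2 b b.2) }
    have hcyc : IsCyclic L := Frobenius.SmallCyclic.isCyclic_of_comm (Frobenius.smallCyclic_complement hF)
    obtain ⟨g, hg⟩ := IsCyclic.exists_ofOrder_eq_natCard (α := L)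
    have hdvd : orderOf g ∣ q := orderOf_dvd_of_pow_eq_one (Subtype.ext (by simpa using hexp g g.2))
    rw [hg] at hdvd
    exact ((Nat.dvd_prime hq).1 hdvd).resolve_left (fun e0 => hF.1 (Subgroup.card_eq_one.1 e0)) ▸ hq

end Cfsg.Agent.MaxCentralizer
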