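import Cfsg.Agent.Lib.Transfer.Criteria
import Cfsg.Agent.Lib.Frobenius.Structure
import Cfsg.Agent.Lib.FPF.Kernel

/-!
# Normal subgroups all of whose non-central elements have maximal centralizers

Basic steps; the theorem is in `Cfsg.Agent.Lib.MaxCentralizer.Main`.
-/

set_option autoImplicit false

open Subgroup

namespace Cfsg.Agent.MaxCentralizer

universe u

variable {G : Type u} [Group G] {N : Subgroup G}

/-- The hypothesis: non-central elements of `N` have maximal centralizers in `G`. -/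
def Hyp (N : Subgroup G) : Prop :=
  ∀ x : G, x ∈ N → x ∉ Subgroup.centralizer (N : Set G) → IsCoatom (Subgroup.centralizer ({x} : Set G))

/-- The centralizer in `G` of an element of `N`. -/
abbrev cG (x : N) : Subgroup G := Subgroup.centralizer ({(x : G)} : Set G)

/-- The centralizer in `N` of an element of `N`. -/
abbrev cN (x : N) : Subgroup N := Subgroup.centralizer ({x} : Set N)

theorem mem_cN_iff {x y : N} : y ∈ cN x ↔ (y : G) ∈ cG x := by
  rw [mem_centralizer_singleton_iff, mem_centralizer_singleton_iff, ← Subtype.coe_inj]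
  rfl

theorem cN_symm {x y : N} (h : y ∈ cN x) : x ∈ cN y :=
  mem_centralizer_singleton_iff.2 (mem_centralizer_singleton_iff.1 h).symm

theorem cG_symm {x y : N} (h : (y : G) ∈ cG x) : (x : G) ∈ cG y :=
  mem_centralizer_singleton_iff.2 (mem_centralizer_singleton_iff.1 h).symm

theorem self_mem_cN (x : N) : x ∈ cN x := mem_centralizer_singleton_iff.2 rfl

theorem center_le_cN (x : N) : center N ≤ cN x := fun _ hz =>
  mem_centralizer_singleton_iff.2 (mem_center_iff.1 hz x).symm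

theorem cN_mono {x y : N} (h : cG x ≤ cG y) : cN x ≤ cN y := fun _ hz =>
  mem_cN_iff.2 (h (mem_cN_iff.1 hz))

theorem cG_le_pow (x : N) (n : ℕ) : cG x ≤ cG (x ^ n) := fun g hg =>
  mem_centralizer_singleton_iff.2 (by
    rw [SubmonoidClass.coe_pow]
    exact ((show Commute g (x : G) from mem_centralizer_singleton_iff.1 hg).pow_right n).eq)

theorem cG_le_of_mem_zpowers {x y : N} (h : y ∈ zpowers x) : cG x ≤ cG y := by
  obtain ⟨i, rfl⟩ := h
  intro g hg
  refine mem_centralizer_singleton_iff.2 ?_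
  simp only [SubgroupClass.coe_zpow]
  exact ((show Commute g (x : G) from mem_centralizer_singleton_iff.1 hg).zpow_right i).eq

theorem ne_top_of_nc {x : N} (hx : x ∉ center N) : cN x ≠ ⊤ := fun h => hx <|
  mem_center_iff.2 fun g => mem_centralizer_singleton_iff.1 (h ▸ mem_top g : g ∈ cN x)

theorem Hyp.coatom (h : Hyp N) {x : N} (hx : x ∉ center N) : IsCoatom (cG x) :=
  h x x.2 fun hc => hx (mem_center_iff.2 fun g => Subtype.ext (hc g g.2))

theorem Hyp.eq_of_le (h : Hyp N) {x y : N} (hx : x ∉ center N) (hy : y ∉ center N) (hle : cG x ≤ cG y) :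
    cG x = cG y :=
  ((h.coatom hx).le_iff_eq (h.coatom hy).1).1 hle |>.symm

theorem cN_congr {x y : N} (h : cG x = cG y) : cN x = cN y :=
  le_antisymm (cN_mono h.le) (cN_mono h.ge)

/-- `x` has order a power of `p`. -/
def IsPElt (p : ℕ) (x : N) : Prop := ∃ k, orderOf x = p ^ k

theorem IsPElt.pow {p : ℕ} (hp : p.Prime) {x : N} (hx : IsPElt p x) (n : ℕ) : IsPElt p (x ^ n) := by
  obtain ⟨k, hk⟩ := hx
  obtain ⟨i, -, hi⟩ := (Nat.dvd_prime_pow hp).1 (hk ▸ orderOf_pow_dvd (x := x) n)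
  exact ⟨i, hi⟩

/-- Commuting non-central elements of coprime orders have the same centralizer. -/
theorem Hyp.eq_of_coprime (h : Hyp N) {x y : N} (hx : x ∉ center N) (hy : y ∉ center N)
    (hxy : y ∈ cN x) (hcop : (orderOf x).Coprime (orderOf y)) : cG x = cG y := by
  have hc : Commute x y := (mem_centralizer_singleton_iff.1 hxy).symm
  have hzx : x ∈ zpowers (x * y) := by
    obtain ⟨m, hm⟩ := exists_pow_eq_self_of_coprime (x := x) hcop.symm
    refine ⟨((orderOf y * m : ℕ) : ℤ), ?_⟩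
    simp only [zpow_natCast]
    rw [hc.mul_pow, pow_mul y, pow_orderOf_eq_one, one_pow, mul_one, pow_mul]
    exact hm
  have hzy : y ∈ zpowers (x * y) := by
    have := (zpowers (x * y)).mul_mem ((zpowers (x * y)).inv_mem hzx) (mem_zpowers (x * y))
    simpa using this
  have hxy' : x * y ∉ center N := fun hz => hx (zpowers_le.2 hz hzx)
  exact (h.eq_of_le hxy' hx (cG_le_of_mem_zpowers hzx)).symm.trans
    (h.eq_of_le hxy' hy (cG_le_of_mem_zpowers hzy))

theorem coprime_of_pElts {p q : ℕ} (hp : p.Prime) (hq : q.Prime) (hpq : p ≠ q) {x y : N}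
    (hx : IsPElt p x) (hy : IsPElt q y) : (orderOf x).Coprime (orderOf y) := by
  obtain ⟨a, ha⟩ := hx
  obtain ⟨b, hb⟩ := hy
  rw [ha, hb]
  exact Nat.Coprime.pow _ _ ((Nat.coprime_primes hp hq).2 hpq)

theorem Hyp.eq_of_primes (h : Hyp N) {p q : ℕ} (hp : p.Prime) (hq : q.Prime) (hpq : p ≠ q) {x y : N}
    (hx : x ∉ center N) (hy : y ∉ center N) (hxp : IsPElt p x) (hyq : IsPElt q y) (hxy : y ∈ cN x) :
    cG x = cG y :=
  h.eq_of_coprime hx hy hxy (coprime_of_pElts hp hq hpq hxp hyq)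

/-- All elements of `H` of prime power order prime to `p` are central in `N`. -/
def PMod (p : ℕ) (H : Subgroup N) : Prop :=
  ∀ q : ℕ, q.Prime → q ≠ p → ∀ w ∈ H, IsPElt q w → w ∈ center N

theorem PMod.mono {p : ℕ} {H K : Subgroup N} (hK : PMod p K) (hle : H ≤ K) : PMod p H :=
  fun q hq hqp w hw => hK q hq hqp w (hle hw)

variable [Finite G]

theorem exists_primary {x : N} (hx : x ∉ center N) :
    ∃ p : ℕ, p.Prime ∧ ∃ y ∈ zpowers x, y ∉ center N ∧ IsPElt p y := by
  by_contra hno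
  push Not at hno
  exact hx (Transfer.mem_of_forall_primePow fun q hq y hy hk => by
    by_contra hc
    exact hno q hq y hy hc hk)

/-- A non-central element has the centralizer of one of its non-central primary parts. -/
theorem Hyp.exists_primary_eq (h : Hyp N) {x : N} (hx : x ∉ center N) :
    ∃ p : ℕ, p.Prime ∧ ∃ y, y ∈ zpowers x ∧ y ∉ center N ∧ IsPElt p y ∧ cG x = cG y := by
  obtain ⟨p, hp, y, hy, hyc, hyp⟩ := exists_primary hx
  exact ⟨p, hp, y, hy, hyc, hyp, h.eq_of_le hx hyc (cG_le_of_mem_zpowers hy)⟩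

/-- Two primes occurring among the non-central elements of a centralizer make it abelian. -/
theorem Hyp.abelian_of_primes (h : Hyp N) {p q : ℕ} (hp : p.Prime) (hq : q.Prime) (hpq : p ≠ q)
    {x y : N} (hx : x ∉ center N) (hy : y ∉ center N) (hxp : IsPElt p x) (hyq : IsPElt q y)
    (hxy : y ∈ cN x) : ∀ a ∈ cN x, ∀ b ∈ cN x, a * b = b * a := by
  have e := h.eq_of_primes hp hq hpq hx hy hxp hyq hxy
  have key : ∀ (r : ℕ), r.Prime → ∀ z ∈ cN x, IsPElt r z → ∀ b ∈ cN x, z * b = b * z := by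
    intro r hr z hz hzr b hb
    by_cases hzc : z ∈ center N
    · exact (mem_center_iff.1 hzc b).symm
    have hcz : cG x = cG z := by
      by_cases hrp : r = p
      · subst hrp
        have hzy : y ∈ cN z := cN_symm (cN_congr e ▸ hz)
        exact e.trans (h.eq_of_primes hr hq hpq hzc hy hzr hyq hzy).symm
      · exact h.eq_of_primes hp hr (Ne.symm hrp) hx hzc hxp hzr hz
    exact (mem_centralizer_singleton_iff.1 (cN_congr hcz ▸ hb : b ∈ cN z)).symm
  intro a ha b hb
  refine mem_centralizer_singleton_iff.1 (Transfer.mem_of_forall_primePow (H := cN b) fun r hr z hz hk => ?_)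
  exact mem_centralizer_singleton_iff.2 (key r hr z (zpowers_le.2 ha hz) hk b hb)

theorem PMod.exists_pow_mem {p : ℕ} (hp : p.Prime) {H : Subgroup N} (hH : PMod p H) {w : N} (hw : w ∈ H) :
    ∃ k, w ^ p ^ k ∈ center N := by
  obtain ⟨k, m, hm, hkm⟩ := Nat.exists_eq_pow_mul_and_not_dvd (orderOf_pos w).ne' p hp.ne_one
  refine ⟨k, Transfer.mem_of_forall_primePow fun q hq z hz hzk => ?_⟩
  obtain ⟨j, hj⟩ := hzk
  rcases Nat.eq_zero_or_pos j with rfl | hjpos
  · rw [pow_zero, orderOf_eq_one_iff] at hj; rw [hj]; exact one_mem _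
  refine hH q hq ?_ z (zpowers_le.2 (H.pow_mem hw _) hz) ⟨j, hj⟩
  rintro rfl
  obtain ⟨i, rfl⟩ := hz
  have h1 : ((w ^ q ^ k) ^ i) ^ m = 1 := by
    rw [← zpow_natCast, ← zpow_mul, mul_comm, zpow_mul, zpow_natCast, ← pow_mul, ← hkm, pow_orderOf_eq_one,
      one_zpow]
  have h2 := orderOf_dvd_of_pow_eq_one h1
  rw [hj] at h2
  exact hm ((dvd_pow_self q hjpos.ne').trans h2)

/-- The image of a subgroup in `N / Z(N)`. -/
abbrev bar (H : Subgroup N) : Subgroup (N ⧸ center N) := H.map (QuotientGroup.mk' (center N))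

theorem mem_of_bar {H : Subgroup N} (hc : center N ≤ H) {x : N}
    (hx : (x : N ⧸ center N) ∈ bar H) : x ∈ H := by
  obtain ⟨y, hy, hyx⟩ := hx
  have := H.mul_mem hy (hc (QuotientGroup.eq.1 hyx))
  simpa using this

theorem mem_bar {H : Subgroup N} {x : N} (hx : x ∈ H) : (x : N ⧸ center N) ∈ bar H := ⟨x, hx, rfl⟩

theorem PMod.isPGroup {p : ℕ} (hp : p.Prime) {H : Subgroup N} (hH : PMod p H) : IsPGroup p (bar H) := by
  rintro ⟨_, w, hw, rfl⟩
  obtain ⟨k, hk⟩ := hH.exists_pow_mem hp hw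
  exact ⟨k, Subtype.ext ((QuotientGroup.eq_one_iff (w ^ p ^ k)).2 hk)⟩

/-- In a `p`-group modulo the centre an element is a `p`-element times a central one. -/
theorem PMod.exists_pElt {p : ℕ} (hp : p.Prime) {H : Subgroup N} (hH : PMod p H) {w : N} (hw : w ∈ H) :
    ∃ u ∈ H, IsPElt p u ∧ w * u⁻¹ ∈ center N := by
  obtain ⟨k, m, hm, hkm⟩ := Nat.exists_eq_pow_mul_and_not_dvd (orderOf_pos w).ne' p hp.ne_one
  obtain ⟨k', hk'⟩ := hH.exists_pow_mem hp hw
  obtain ⟨a, ha⟩ : (m : ℕ).Coprime (p ^ (k + k')) ∧ True :=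
    ⟨Nat.Coprime.pow_right _ (Nat.Coprime.symm ((Nat.Prime.coprime_iff_not_dvd hp).2 hm)), trivial⟩
  obtain ⟨u, v, huv⟩ : ∃ u v : ℤ, u * m + v * (p ^ (k + k') : ℕ) = 1 := by
    exact Int.isCoprime_iff_gcd_eq_one.2 (by rw [Int.gcd_natCast_natCast]; exact a)
  refine ⟨(w ^ m) ^ u, H.zpow_mem (H.pow_mem hw _) _, ?_, ?_⟩
  · have h1 : ((w ^ m) ^ u) ^ p ^ k = 1 := by
      rw [← zpow_natCast, ← zpow_mul, mul_comm, zpow_mul, zpow_natCast, ← pow_mul, mul_comm m, ← hkm,
        pow_orderOf_eq_one, one_zpow]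
    obtain ⟨i, -, hi⟩ := (Nat.dvd_prime_pow hp).1 (orderOf_dvd_of_pow_eq_one h1)
    exact ⟨i, hi⟩
  · have h2 : w * ((w ^ m) ^ u)⁻¹ = (w ^ p ^ k') ^ ((p ^ k : ℕ) * v : ℤ) := by
      rw [← zpow_natCast w m, ← zpow_natCast w (p ^ k'), ← zpow_mul, ← zpow_mul, ← zpow_neg, ← zpow_one_add]
      congr 1
      push_cast at huv ⊢
      rw [pow_add] at huv
      linarith
    rw [h2]
    exact Subgroup.zpow_mem _ hk' _

end Cfsg.Agent.MaxCentralizer
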