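import Cfsg.Agent.Lib.MaxCentralizer.AbelianCase
import Cfsg.Agent.Lib.IsolatedElts.Basic
import Cfsg.Agent.Lib.PLocal.Complements

/-!
# Maximal centralizers: a non-normal centralizer which is a p-group modulo the centre is abelian
-/

set_option autoImplicit false

open Subgroup
open scoped Pointwise

namespace Cfsg.Agent.MaxCentralizer

universe u

variable {G : Type u} [Group G] {N : Subgroup G} [N.Normal] [Finite G] {p : ℕ} [hp : Fact p.Prime] {x : N}

theorem IsPElt.conj {q : ℕ} {z : N} (hz : IsPElt q z) (a : N) : IsPElt q (a * z * a⁻¹) := by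
  obtain ⟨k, hk⟩ := hz
  exact ⟨k, by rw [← hk]; exact (MulAut.conj a).orderOf_eq z⟩

theorem conj_not_mem_center {z : N} (hz : z ∉ center N) (a : N) : a * z * a⁻¹ ∉ center N := fun h => hz (by
  simpa [mul_assoc] using (inferInstance : (center N).Normal).conj_mem _ h a⁻¹)

theorem exists_conj_mem (h : Hyp N) (hx : x ∉ center N) (hn : ¬ (cN x).Normal) (hm : PMod p (cN x)) {z : N}
    (hzp : IsPElt p z) : ∃ a : N, a * z * a⁻¹ ∈ cN x := by
  obtain ⟨P, hP⟩ := bar_eq_of_sylow h hx hn hm
  obtain ⟨k, hk⟩ := hzp
  obtain ⟨i, -, hi⟩ := (Nat.dvd_prime_pow hp.out).1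
    (hk ▸ orderOf_map_dvd (QuotientGroup.mk' (center N)) z)
  obtain ⟨t, ht⟩ := IsolatedElts.exists_conj_le P
    (IsPGroup.of_card (p := p) (G := zpowers (z : N ⧸ center N)) (n := i) (by rw [Nat.card_zpowers]; exact hi))
  obtain ⟨t, rfl⟩ := QuotientGroup.mk_surjective t
  have h1 := ht _ (mem_zpowers _)
  rw [hP, ← QuotientGroup.mk_inv, ← QuotientGroup.mk_mul, ← QuotientGroup.mk_mul] at h1
  exact ⟨t⁻¹, by simpa using mem_of_bar (center_le_cN x) h1⟩

/-- All non-central `p`-elements have centralizers that are `p`-groups modulo the centre. -/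
theorem pMod_of_pElt (h : Hyp N) (hx : x ∉ center N) (hxp : IsPElt p x) (hn : ¬ (cN x).Normal)
    (hm : PMod p (cN x)) {z : N} (hz : z ∉ center N) (hzp : IsPElt p z) : PMod p (cN z) := by
  intro q hq hqp w hw hwq
  by_contra hwc
  obtain ⟨a, ha⟩ := exists_conj_mem h hx hn hm hzp
  have hw' : a * w * a⁻¹ ∈ cN (a * z * a⁻¹) := conjN_mem_iff.2 hw
  have hwc' := conj_not_mem_center hwc a
  have e := h.eq_of_primes hp.out hq (Ne.symm hqp) (conj_not_mem_center hz a) hwc' (hzp.conj a) (hwq.conj a) hw'
  have hxz : x ∈ cN (a * z * a⁻¹) := cN_symm ha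
  rw [cN_congr e] at hxz
  exact hwc' (hm q hq hqp _ (cN_symm hxz) (hwq.conj a))

theorem normal_le_sylow {Q : Type u} [Group Q] [Finite Q] (P : Sylow p Q) {R : Subgroup Q} [R.Normal]
    (hR : IsPGroup p R) : R ≤ (P : Subgroup Q) := by
  intro r hr
  obtain ⟨t, ht⟩ := IsolatedElts.exists_conj_le P hR
  have := ht _ ((inferInstance : R.Normal).conj_mem r hr t)
  simpa [mul_assoc] using this

theorem center_sup_eq_of_bar_eq {H K : Subgroup N} (hH : center N ≤ H) (hK : center N ≤ K)
    (e : bar H = bar K) : H = K :=
  le_antisymm (fun _ hh => mem_of_bar hK (e ▸ mem_bar hh)) (fun _ hh => mem_of_bar hH (e ▸ mem_bar hh))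

theorem card_bar_eq (h : Hyp N) {y z : N} (hy : y ∉ center N) (hz : z ∉ center N) (hyn : ¬ (cN y).Normal)
    (hzn : ¬ (cN z).Normal) (hym : PMod p (cN y)) (hzm : PMod p (cN z)) (hle : cN y ≤ cN z) : cN y = cN z :=
  (eq_of_pMod_le h hy hyn hym hle hzm).symm

/-- A non-normal centralizer cannot be a non-abelian `p`-group modulo the centre. -/
theorem abelian_of_pMod (h : Hyp N) (hx : x ∉ center N) (hxp : IsPElt p x) (hn : ¬ (cN x).Normal)
    (hm : PMod p (cN x)) : ∀ a ∈ cN x, ∀ b ∈ cN x, a * b = b * a := by
  by_contra hab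
  obtain ⟨P, hP⟩ := bar_eq_of_sylow h hx hn hm
  set L := bar (cN x) with hL
  have hpm : ∀ z : N, z ∉ center N → IsPElt p z → PMod p (cN z) := fun z hz hzp => pMod_of_pElt h hx hxp hn hm hz hzp
  have hLp : IsPGroup p L := hm.isPGroup hp.out
  -- no normal p-subgroup
  set R := L.normalCore with hR
  have hcore : ∀ z : N, z ∉ center N → IsPElt p z → (cN z).Normal → (z : N ⧸ center N) ∈ R := by
    intro z hz hzp hzn
    have : (bar (cN z)).Normal := hzn.map _ (QuotientGroup.mk'_surjective _)
    have h1 : bar (cN z) ≤ L := hP ▸ normal_le_sylow P ((hpm z hz hzp).isPGroup hp.out)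
    exact normal_le_normalCore.2 h1 (mem_bar (self_mem_cN z))
  have hRL : R ≤ L := L.normalCore_le
  have hRbot : R = ⊥ := by
    by_contra hRne
    have hRlt : R ≠ L := fun e => hn <| by
      have : ((cN x).map (QuotientGroup.mk' (center N))).Normal := by
        show L.Normal
        rw [← e]; infer_instance
      have h1 := this.comap (QuotientGroup.mk' (center N))
      rwa [comap_map_eq, QuotientGroup.ker_mk', sup_eq_left.2 (center_le_cN x)] at h1
    -- elements of L outside R centralize R
    have hout : ∀ u ∈ cN x, (u : N ⧸ center N) ∉ R → ∀ r : N, (r : N ⧸ center N) ∈ R → u * r = r * u := by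
      intro u hu huR r hr
      obtain ⟨v, hv, hvp, huv⟩ := hm.exists_pElt hp.out hu
      have hvu : (v : N ⧸ center N) = (u : N ⧸ center N) := by
        rw [QuotientGroup.eq]
        have := (inferInstance : (center N).Normal).conj_mem _ huv v⁻¹
        simpa [mul_assoc] using this
      have hvc : v ∉ center N := fun hc => huR (by
        rw [← hvu, (QuotientGroup.eq_one_iff v).2 hc]; exact one_mem _)
      have hvn : ¬ (cN v).Normal := fun hvn => huR (hvu ▸ hcore v hvc hvp hvn)
      obtain ⟨Q, hQ⟩ := bar_eq_of_sylow h hvc hvn (hpm v hvc hvp)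
      have hRQ : R ≤ bar (cN v) := hQ ▸ normal_le_sylow Q (hLp.to_le hRL)
      have hrv : r ∈ cN v := mem_of_bar (center_le_cN v) (hRQ hr)
      have hur := (show Commute (u * v⁻¹) r from (mem_center_iff.1 huv r).symm).mul_left
        (show Commute v r from (mem_centralizer_singleton_iff.1 hrv).symm)
      simpa using hur.eq
    obtain ⟨v, hv, hvR⟩ := SetLike.exists_of_lt (lt_of_le_of_ne hRL hRlt)
    obtain ⟨v, hvm, rfl⟩ := hv
    have hall : ∀ u ∈ cN x, ∀ r : N, (r : N ⧸ center N) ∈ R → u * r = r * u := by
      intro u hu r hr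
      by_cases huR : (u : N ⧸ center N) ∈ R
      · have h1 : ((v * u : N) : N ⧸ center N) ∉ R := fun hh => hvR (by
          have := mul_mem hh (inv_mem huR)
          simpa using this)
        have := ((show Commute v r from hout v hvm hvR r hr).inv_left).mul_left
          (show Commute (v * u) r from hout _ (mul_mem hvm hu) h1 r hr)
        simpa using this.eq
      · exact hout u hu huR r hr
    obtain ⟨⟨rr, hrr⟩, hr1⟩ := (ne_bot_iff_exists_ne_one.1 hRne)
    obtain ⟨r0, rfl⟩ := QuotientGroup.mk_surjective rr
    have hr0L : r0 ∈ cN x := mem_of_bar (center_le_cN x) (hRL hrr)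
    obtain ⟨r, hrL, hrp, hrc⟩ := hm.exists_pElt hp.out hr0L
    have hr : (r : N ⧸ center N) ∈ R := by
      have : (r : N ⧸ center N) = (r0 : N ⧸ center N) := by
        rw [QuotientGroup.eq]
        have := (inferInstance : (center N).Normal).conj_mem _ hrc r⁻¹
        simpa [mul_assoc] using this
      exact this ▸ hrr
    have hrnc : r ∉ center N := fun hc => hr1 (Subtype.ext ((QuotientGroup.eq_one_iff r0).2 (by
      have := mul_mem hrc hc; simpa using this)))
    have hsylow : ∀ a : N, cN (a * r * a⁻¹) = cN x := by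
      intro a
      refine eq_of_pMod_le h hx hn hm (fun u hu => mem_centralizer_singleton_iff.2 (hall u hu _ ?_))
        (hpm _ (conj_not_mem_center hrnc a) (hrp.conj a))
      rw [QuotientGroup.mk_mul, QuotientGroup.mk_mul, QuotientGroup.mk_inv]
      exact (inferInstance : R.Normal).conj_mem _ hr _
    refine hn (normalizer_eq_top_iff.1 (eq_top_iff.2 fun a _ => mem_normalizer_iff.2 fun w => ?_))
    conv_lhs => rw [← hsylow 1]
    conv_rhs => rw [← hsylow a]
    rw [one_mul, inv_one, mul_one]
    exact (conjN_mem_iff (a := a) (x := r) (y := w)).symm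
  have hnn : ∀ z : N, z ∉ center N → IsPElt p z → ¬ (cN z).Normal := by
    intro z hz hzp hzn
    have := hcore z hz hzp hzn
    rw [hRbot, mem_bot, QuotientGroup.eq_one_iff] at this
    exact hz this
  have heq : ∀ y z : N, y ∉ center N → z ∉ center N → IsPElt p y → IsPElt p z → cN y ≤ cN z → cN y = cN z :=
    fun y z hy hz hyp hzp hle => card_bar_eq h hy hz (hnn y hy hyp) (hnn z hz hzp) (hpm y hy hyp) (hpm z hz hzp) hle
  -- the Sylow subgroup of `N / Z(N)` controls fusion
  have hfus : IsolatedElts.NoFusion (P : Subgroup (N ⧸ center N)) := by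
    by_cases hp2 : p = 2
    · -- the Sylow subgroup has exponent two
      have hsq : ∀ v : N, v ∈ cN x → v ∉ center N → IsPElt p v → v ^ p ∈ center N := by
        -- first replace `x` by an element of order `p` modulo the centre
        classical
        obtain ⟨k, hk⟩ := hm.exists_pow_mem hp.out (self_mem_cN x)
        have hex : ∃ j, x ^ p ^ j ∈ center N := ⟨k, hk⟩
        obtain ⟨j, hj⟩ : ∃ j, Nat.find hex = j + 1 := Nat.exists_eq_succ_of_ne_zero (fun e => hx (by
          have := Nat.find_spec hex; rw [e, pow_zero, pow_one] at this; exact this))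
        have hy1 : x ^ p ^ j ∉ center N := Nat.find_min hex (by omega)
        have hy2 : (x ^ p ^ j) ^ p ∈ center N := by
          have := Nat.find_spec hex
          rw [hj, pow_succ, pow_mul] at this
          exact this
        set x₁ := x ^ p ^ j with hx₁
        have hx₁p : IsPElt p x₁ := hxp.pow hp.out _
        have ex₁ : cN x = cN x₁ := heq x x₁ hx hy1 hxp hx₁p (cN_mono (cG_le_pow x _))
        -- `u v` with `u` of order `p` modulo the centre
        have step : ∀ u v : N, u ∉ center N → IsPElt p u → u ^ p ∈ center N → v ∈ cN u → IsPElt p v →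
            v ^ p ∉ center N → cN v = cN u := by
          intro u v hu hup hu2 hvu hvp hv2
          have hvc : v ∉ center N := fun hc => hv2 (pow_mem hc p)
          have hc : Commute u v := (mem_centralizer_singleton_iff.1 hvu).symm
          have ev := heq v (v ^ p) hvc hv2 hvp (hvp.pow hp.out p) (cN_mono (cG_le_pow v p))
          have hpw : (u * v) ^ p = u ^ p * v ^ p := hc.mul_pow p
          have hcp : (u * v) ^ p ∉ center N := fun hh => hv2 (by
            rw [hpw] at hh; simpa using mul_mem (inv_mem hu2) hh)
          have huvc : u * v ∉ center N := fun hh => hcp (pow_mem hh p)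
          have huvp : IsPElt p (u * v) := by
            obtain ⟨a, ha⟩ := hup
            obtain ⟨b, hb⟩ := hvp
            have h1 : (u * v) ^ p ^ (a + b) = 1 := by
              rw [hc.mul_pow, pow_add, pow_mul u, ← ha, pow_orderOf_eq_one, one_pow, one_mul, mul_comm (orderOf u),
                pow_mul, ← hb, pow_orderOf_eq_one, one_pow]
            obtain ⟨i, -, hi⟩ := (Nat.dvd_prime_pow hp.out).1 (orderOf_dvd_of_pow_eq_one h1)
            exact ⟨i, hi⟩
          have e1 : cN (u * v) ≤ cN (v ^ p) := by
            intro w hw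
            have h1 : w ∈ cN ((u * v) ^ p) := cN_mono (cG_le_pow (u * v) p) hw
            have h2 : w ∈ cN ((u ^ p)⁻¹) := cN_symm (center_le_cN w (inv_mem hu2))
            refine mem_centralizer_singleton_iff.2 ?_
            have := ((show Commute w ((u ^ p)⁻¹) from mem_centralizer_singleton_iff.1 h2).mul_right
              (show Commute w ((u * v) ^ p) from mem_centralizer_singleton_iff.1 h1)).eq
            rwa [hpw, inv_mul_cancel_left] at this
          have e2 := heq (u * v) (v ^ p) huvc hv2 huvp (hvp.pow hp.out p) e1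
          rw [← ev] at e2
          have hle : cN v ≤ cN u := by
            intro w hw
            have h3 : w ∈ cN (u * v) := e2.symm ▸ hw
            refine mem_centralizer_singleton_iff.2 ?_
            have := ((show Commute w (u * v) from mem_centralizer_singleton_iff.1 h3).mul_right
              (show Commute w v from mem_centralizer_singleton_iff.1 hw).inv_right).eq
            rwa [mul_inv_cancel_right] at this
          exact heq v u hvc hu hvp hup hle
        intro v hv hvc hvp
        by_contra hv2
        have hev : cN v = cN x := (step x₁ v hy1 hx₁p hy2 (ex₁ ▸ hv) hvp hv2).trans ex₁.symm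
        -- an element of `L` with another centralizer has order `p` modulo the centre
        refine hab fun a ha b hb => ?_
        have hcen : ∀ w ∈ cN x, w ∉ center N → IsPElt p w → cN w = cN x := by
          intro w hw hwc hwp
          by_cases hw2 : w ^ p ∈ center N
          · rw [← hev]
            exact (step w v hwc hwp hw2 (cN_symm (by rw [hev]; exact hw)) hvp hv2).symm
          · exact (step x₁ w hy1 hx₁p hy2 (ex₁ ▸ hw) hwp hw2).trans ex₁.symm
        obtain ⟨a', ha', hap, haa⟩ := hm.exists_pElt hp.out ha
        have h1 : Commute a' b := by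
          by_cases hac : a' ∈ center N
          · exact (mem_center_iff.1 hac b).symm
          · exact (mem_centralizer_singleton_iff.1 ((hcen a' ha' hac hap).symm ▸ hb : b ∈ cN a')).symm
        simpa using ((show Commute (a * a'⁻¹) b from (mem_center_iff.1 haa b).symm).mul_left h1).eq
      have hexp : ∀ z ∈ L, z ^ 2 = 1 := by
        rintro _ ⟨v, hv, rfl⟩
        obtain ⟨v', hv', hvp, hvv⟩ := hm.exists_pElt hp.out hv
        have hvv' : (v : N ⧸ center N) = (v' : N ⧸ center N) := by
          symm
          rw [QuotientGroup.eq]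
          have := (inferInstance : (center N).Normal).conj_mem _ hvv v'⁻¹
          simpa [mul_assoc] using this
        show (v : N ⧸ center N) ^ 2 = 1
        rw [hvv', ← hp2, ← QuotientGroup.mk_pow, QuotientGroup.eq_one_iff]
        by_cases hc : v' ∈ center N
        · exact pow_mem hc p
        · exact hsq v' hv' hc hvp
      have : IsMulCommutative (P : Subgroup (N ⧸ center N)) := ⟨⟨fun a b => by
        have ha := hexp a (hP ▸ a.2)
        have hb := hexp b (hP ▸ b.2)
        have hab' := hexp (a * b) (hP ▸ (a * b).2)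
        rw [pow_two] at ha hb hab'
        apply Subtype.ext
        show (a : N ⧸ center N) * b = b * a
        rw [← inv_eq_of_mul_eq_one_right hab', mul_inv_rev, inv_eq_of_mul_eq_one_right ha,
          inv_eq_of_mul_eq_one_right hb]⟩⟩
      intro a ha b hb hg
      obtain ⟨g, rfl⟩ := hg
      obtain ⟨n, hnn', hn'⟩ := P.conj_eq_normalizer_conj_of_mem a g⁻¹ ha (show g⁻¹⁻¹ * a * g⁻¹ ∈ (P : Subgroup (N ⧸ center N)) by rw [inv_inv]; exact hb)
      refine ⟨n⁻¹, ?_, by simpa using hn'.symm⟩
      refine inv_mem ?_
      have h1 : n ∈ normalizer (L : Set (N ⧸ center N)) := hP ▸ hnn'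
      rw [hP]
      rwa [normalizer_bar h hx hn] at h1
    · -- Glauberman–Thompson
      refine (IsolatedElts.hasNormalPComplement_iff_noFusion P).1 (PLocal.glauberman_complement hp2 P ?_)
      set J := Cfsg.centerThompsonOf p (P : Subgroup (N ⧸ center N)) with hJ
      have hJP : J ≤ (P : Subgroup (N ⧸ center N)) := inf_le_left.trans (PLocal.thompsonSubgroupOf_le _)
      have hJne : J ≠ ⊥ := by
        have hne : (P : Subgroup (N ⧸ center N)) ≠ ⊥ := fun e => hx ((QuotientGroup.eq_one_iff x).1 (by
          have h1 : (x : N ⧸ center N) ∈ (P : Subgroup (N ⧸ center N)) := hP.symm ▸ mem_bar (self_mem_cN x)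
          rw [e, mem_bot] at h1; exact h1))
        have : Nontrivial (P : Subgroup (N ⧸ center N)) := (nontrivial_iff_ne_bot _).2 hne
        obtain ⟨z, hzc, hz⟩ : ∃ z ∈ center (P : Subgroup (N ⧸ center N)), orderOf z = p := by
          have := P.2.center_nontrivial
          obtain ⟨i, hi⟩ := IsPGroup.iff_card.1 (P.2.to_subgroup (center (P : Subgroup (N ⧸ center N))))
          have hi0 : i ≠ 0 := fun h0 => by
            have h1 : 1 < Nat.card (center (P : Subgroup (N ⧸ center N))) := Finite.one_lt_card
            rw [hi, h0] at h1; simp at h1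
          obtain ⟨z, hz⟩ := exists_prime_orderOf_dvd_card' (G := center (P : Subgroup (N ⧸ center N))) p
            (hi ▸ dvd_pow_self p hi0)
          exact ⟨z, z.2, by rw [orderOf_coe, hz]⟩
        intro e
        have hzJ : (z : N ⧸ center N) ∈ J := PLocal.central_le_centerThompsonOf
          ⟨z.2, fun w hw => congrArg Subtype.val (mem_center_iff.1 hzc ⟨w, hw⟩)⟩
          (by
            have := pow_orderOf_eq_one (z : N ⧸ center N)
            rw [orderOf_coe, hz] at this
            exact this)
        rw [e, mem_bot] at hzJ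
        rw [← orderOf_coe, hzJ, orderOf_one] at hz
        exact hp.out.one_lt.ne hz
      have hJL : normalizer (J : Set (N ⧸ center N)) = (P : Subgroup (N ⧸ center N)) := by
        have hle : (P : Subgroup (N ⧸ center N)) ≤ normalizer (J : Set (N ⧸ center N)) := by
          intro b hb
          have hmap : (P : Subgroup (N ⧸ center N)).map (MulAut.conj b).toMonoidHom = (P : Subgroup (N ⧸ center N)) := by
            refine eq_of_le_of_card_ge ?_ (le_of_eq (card_map_of_injective (MulEquiv.injective _)).symm)
            rintro _ ⟨w, hw, rfl⟩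
            exact mul_mem (mul_mem hb hw) (inv_mem hb)
          have h1 : J.map (MulAut.conj b).toMonoidHom = J := by
            rw [hJ, PLocal.map_centerThompsonOf _ (MulEquiv.injective _).injOn, hmap]
          rw [mem_normalizer_iff]
          intro w
          exact ⟨fun hw => h1 ▸ ⟨w, hw, rfl⟩, fun hw => by
            rw [← h1] at hw
            obtain ⟨w', hw', e⟩ := hw
            exact (MulEquiv.injective (MulAut.conj b)) e ▸ hw'⟩
        rcases eq_or_eq_top h hx (R := (normalizer (J : Set (N ⧸ center N))).comap (QuotientGroup.mk' (center N)))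
          (fun w hw => hle (hP.symm ▸ mem_bar hw)) (fun g hg w hw => by
            have hP' : (P : Subgroup (N ⧸ center N)).map (act g).toMonoidHom = (P : Subgroup (N ⧸ center N)) := by
              refine eq_of_le_of_card_ge ?_ (le_of_eq (card_map_of_injective (MulEquiv.injective _)).symm)
              rw [hP]
              rintro _ ⟨_, ⟨w, hw, rfl⟩, rfl⟩
              exact mem_bar (conjN_mem_cN x hg hw)
            have h1 : J.map (act g).toMonoidHom = J := by
              rw [hJ, PLocal.map_centerThompsonOf _ (MulEquiv.injective _).injOn, hP']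
            show act g (w : N ⧸ center N) ∈ normalizer (J : Set (N ⧸ center N))
            rw [mem_normalizer_iff]
            intro z
            obtain ⟨z, rfl⟩ := (act g).surjective z
            rw [← map_inv, ← map_mul, ← map_mul]
            have e : ∀ t, act g t ∈ J ↔ t ∈ J := fun t =>
              ⟨fun ht => by
                rw [← h1] at ht
                obtain ⟨t', ht', e⟩ := ht
                exact (MulEquiv.injective (act g)) e ▸ ht', fun ht => h1 ▸ ⟨t, ht, rfl⟩⟩
            rw [e, e]
            exact (mem_normalizer_iff.1 hw) z) with e | e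
        · refine le_antisymm (fun b hb => ?_) hle
          obtain ⟨b, rfl⟩ := QuotientGroup.mk_surjective b
          rw [hP]
          exact mem_bar (e ▸ hb : b ∈ cN x)
        · exfalso
          have : J.Normal := normalizer_eq_top_iff.1 (eq_top_iff.2 fun b _ => by
            obtain ⟨b, rfl⟩ := QuotientGroup.mk_surjective b
            exact (e ▸ mem_top b : b ∈ (normalizer (J : Set (N ⧸ center N))).comap _))
          have h2 : J ≤ R := normal_le_normalCore.2 (hP ▸ hJP)
          exact hJne (eq_bot_iff.2 (hRbot ▸ h2))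
      rw [hJL]
      refine (IsolatedElts.hasNormalPComplement_iff_noFusion (P.subtype le_rfl)).2 fun a _ b _ ⟨g, hg⟩ => ?_
      exact ⟨g, by simp, hg⟩
  -- hence all centralizers in `L` coincide
  refine hab fun a ha b hb => ?_
  obtain ⟨v, hv, hvp, hav⟩ := hm.exists_pElt hp.out ha
  have hvb : Commute v b := by
    by_cases hvc : v ∈ center N
    · exact (mem_center_iff.1 hvc b).symm
    obtain ⟨Q, hQ⟩ := bar_eq_of_sylow h hvc (hnn v hvc hvp) (hpm v hvc hvp)
    obtain ⟨t, ht⟩ := MulAction.exists_smul_eq (N ⧸ center N) P Q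
    obtain ⟨t, rfl⟩ := QuotientGroup.mk_surjective t
    have htv : cN v = cN (t * x * t⁻¹) := by
      have key : ∀ w : N, w ∈ cN (t * x * t⁻¹) → w ∈ cN v := fun w hw => by
        refine mem_of_bar (center_le_cN v) ?_
        rw [← hQ, ← ht]
        show (w : N ⧸ center N) ∈ MulAut.conj (t : N ⧸ center N) • (P : Subgroup (N ⧸ center N))
        refine Frobenius.mem_conj_smul.2 ?_
        rw [hP, ← QuotientGroup.mk_inv, ← QuotientGroup.mk_mul, ← QuotientGroup.mk_mul]
        refine mem_bar ((conjN_mem_iff (a := t)).1 ?_)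
        simpa [mul_assoc] using hw
      exact (heq _ _ (conj_not_mem_center hx t) hvc (hxp.conj t) hvp key).symm
    set z := t⁻¹ * v * t with hz
    have hzv : t * z * t⁻¹ = v := by rw [hz]; group
    have hcz : cN z = cN x := by
      ext w
      rw [← conjN_mem_iff (a := t) (x := z), hzv, htv, conjN_mem_iff]
    have hzL : z ∈ cN x := hcz ▸ self_mem_cN z
    obtain ⟨s, hs, hsz⟩ := hfus (z : N ⧸ center N) (hP.symm ▸ mem_bar hzL) (v : N ⧸ center N)
      (hP.symm ▸ mem_bar hv) ⟨(t : N ⧸ center N), by
        rw [← QuotientGroup.mk_inv, ← QuotientGroup.mk_mul, ← QuotientGroup.mk_mul, hzv]⟩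
    obtain ⟨s, rfl⟩ := QuotientGroup.mk_surjective s
    have hsx : s ∈ cN x := mem_of_bar (center_le_cN x) (hP.le hs)
    rw [← QuotientGroup.mk_inv, ← QuotientGroup.mk_mul, ← QuotientGroup.mk_mul, QuotientGroup.eq] at hsz
    have hszs : s * z * s⁻¹ = z := by
      rw [mul_inv_eq_iff_eq_mul]
      exact mem_centralizer_singleton_iff.1 (hcz ▸ hsx : s ∈ cN z)
    rw [hszs] at hsz
    have h1 : Commute z b := (mem_centralizer_singleton_iff.1 (hcz ▸ hb : b ∈ cN z)).symm
    simpa using h1.mul_left (show Commute (z⁻¹ * v) b from (mem_center_iff.1 hsz b).symm)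
  simpa using ((show Commute (a * v⁻¹) b from (mem_center_iff.1 hav b).symm).mul_left hvb).eq

end Cfsg.Agent.MaxCentralizer
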