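import Cfsg.Agent.Lib.MaxCentralizer.Normal
import Cfsg.Agent.Lib.MaxCentralizer.PCase

/-!
# Normal subgroups all of whose non-central elements have maximal centralizers

`main`: `N / Z(N)` is elementary abelian, or a Frobenius group with a complement of prime order and an elementary
abelian kernel without proper invariant subgroups.
-/

set_option autoImplicit false

open Subgroup

namespace Cfsg.Agent.MaxCentralizer

universe u

variable {G : Type u} [Group G] {N : Subgroup G} [N.Normal] [Finite G]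

theorem main (h : Hyp N) :
    (∃ p : ℕ, p.Prime ∧ Cfsg.IsElementaryAbelian p (⊤ : Subgroup (N ⧸ center N))) ∨
    ∃ (x : N) (K : Subgroup (N ⧸ center N)) (r : ℕ), r.Prime ∧
      Cfsg.IsFrobeniusComplement (bar (cN x)) ∧ (Nat.card (bar (cN x))).Prime ∧ K.Normal ∧
        (K : Set (N ⧸ center N)) = Cfsg.frobeniusKernel (bar (cN x)) ∧ K.IsComplement' (bar (cN x)) ∧
        Cfsg.IsElementaryAbelian r K ∧
        ∀ R ≤ K, (∀ g ∈ cG x, ∀ z ∈ R, act g z ∈ R) → R = ⊥ ∨ R = K := by
  by_cases hall : ∀ x : N, x ∉ center N → (cN x).Normal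
  · exact Or.inl (elementary_of_normal h hall)
  push Not at hall
  obtain ⟨x₀, hx₀, hn₀⟩ := hall
  obtain ⟨p, hp, x, -, hx, hxp, e⟩ := h.exists_primary_eq hx₀
  rw [cN_congr e] at hn₀
  have : Fact p.Prime := ⟨hp⟩
  have hab : ∀ a ∈ cN x, ∀ b ∈ cN x, a * b = b * a := by
    by_cases hm : PMod p (cN x)
    · exact abelian_of_pMod h hx hxp hn₀ hm
    · simp only [PMod, not_forall] at hm
      obtain ⟨q, hq, hqp, w, hw, hwq, hwc⟩ := hm
      exact h.abelian_of_primes hp hq (Ne.symm hqp) hx hwc hxp hwq hw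
  obtain ⟨hF, hpr, K, r, hr, hKn, hKc, hc, hel, hmin⟩ := frobenius_of_abelian h hx hxp hn₀ hab
  exact Or.inr ⟨x, K, r, hr, hF, hpr, hKn, hKc, hc, hel, hmin⟩

/-- A Frobenius group with elementary kernel having no proper invariant subgroup is minimal non-abelian. -/
theorem minimal_nonabelian {Q : Type u} [Group Q] [Finite Q] {r : ℕ} (hr : r.Prime) {L K : Subgroup Q}
    (hF : Cfsg.IsFrobeniusComplement L) (hL : (Nat.card L).Prime) (hKn : K.Normal) (hc : K.IsComplement' L)
    (hel : Cfsg.IsElementaryAbelian r K) (hmin : ∀ R ≤ K, R.Normal → R = ⊥ ∨ R = K) :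
    ¬ IsMulCommutative Q ∧ (∀ H : Subgroup Q, H ≠ ⊤ → IsMulCommutative ↥H) ∧
      ∃ p q a : ℕ, p.Prime ∧ q.Prime ∧ p ≠ q ∧ Nat.card Q = p ^ a * q ∧
        ∀ P : Subgroup Q, Nat.card ↥P = p ^ a → P.Normal := by
  have hKab : ∀ a ∈ K, ∀ b ∈ K, a * b = b * a := fun a ha b hb =>
    congrArg Subtype.val (hel.1.is_comm.comm ⟨a, ha⟩ ⟨b, hb⟩)
  have hidx : K.index = Nat.card L := hc.symm.index_eq_card
  have : Fact r.Prime := ⟨hr⟩
  obtain ⟨a, ha⟩ := IsPGroup.iff_card.1 (show IsPGroup r K from fun z => ⟨1, Subtype.ext (by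
    simpa using hel.2 z z.2)⟩)
  have hK1 : K ≠ ⊥ := by
    intro e
    refine hF.2.1 ?_
    have := hc.sup_eq_top
    rwa [e, bot_sup_eq] at this
  have hne : r ≠ Nat.card L := by
    intro e
    have h1 := Frobenius.coprime_card_index hF
    rw [show L.index = Nat.card K from hc.index_eq_card, ha, ← e] at h1
    have ha0 : a ≠ 0 := fun h0 => hK1 (Subgroup.card_eq_one.1 (by rw [ha, h0, pow_zero]))
    exact hr.ne_one (Nat.eq_one_of_dvd_one (h1 ▸ Nat.dvd_gcd dvd_rfl (dvd_pow_self r ha0)))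
  refine ⟨fun hcomm => ?_, fun H hH => ?_, r, Nat.card L, a, hr, hL, hne, by rw [← ha, hc.card_mul],
    fun P hP => ?_⟩
  · obtain ⟨b, -, hb⟩ := SetLike.exists_of_lt (lt_top_iff_ne_top.2 hF.2.1)
    obtain ⟨⟨l, hl⟩, hl1⟩ := ne_bot_iff_exists_ne_one.1 hF.1
    refine hl1 (Subtype.ext (Frobenius.eq_one_of_conj_mem hF hb hl ?_))
    have := hcomm
    rw [hcomm.is_comm.comm b⁻¹ l, inv_mul_cancel_right]
    exact hl
  · by_cases hHK : H ≤ K
    · exact ⟨⟨fun u v => Subtype.ext (hKab u (hHK u.2) v (hHK v.2))⟩⟩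
    have hsup : H ⊔ K = ⊤ := by
      have h1 : (H ⊔ K).index ∣ K.index := index_dvd_of_le le_sup_right
      rw [hidx] at h1
      rcases (Nat.dvd_prime hL).1 h1 with e | e
      · exact index_eq_one.1 e
      · refine absurd ?_ hHK
        rw [← hidx] at e
        have : K.relIndex (H ⊔ K) = 1 := by
          have h2 := relIndex_mul_index (le_sup_right : K ≤ H ⊔ K)
          rw [e] at h2
          exact Nat.eq_of_mul_eq_mul_right (Nat.pos_of_ne_zero index_ne_zero_of_finite) (by rw [h2, one_mul])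
        exact le_sup_left.trans (relIndex_eq_one.1 this)
    have hnorm : (H ⊓ K).Normal := by
      refine normalizer_eq_top_iff.1 (eq_top_iff.2 (hsup ▸ sup_le (fun u hu => ?_) fun u hu => ?_))
      · rw [mem_normalizer_iff]
        intro z
        refine ⟨fun hz => ⟨H.mul_mem (H.mul_mem hu hz.1) (H.inv_mem hu), hKn.conj_mem _ hz.2 u⟩, fun hz => ⟨?_, ?_⟩⟩
        · have := H.mul_mem (H.mul_mem (H.inv_mem hu) hz.1) hu
          simpa [mul_assoc] using this
        · have := hKn.conj_mem _ hz.2 u⁻¹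
          simpa [mul_assoc] using this
      · rw [mem_normalizer_iff]
        intro z
        constructor
        · intro hz
          rw [hKab u hu z hz.2, mul_inv_cancel_right]
          exact hz
        · intro hz
          have hzK : z ∈ K := by
            have := hKn.conj_mem _ hz.2 u⁻¹
            simpa [mul_assoc] using this
          rwa [hKab u hu z hzK, mul_inv_cancel_right] at hz
    rcases hmin _ inf_le_right hnorm with e | e
    · refine ⟨⟨fun u v => Subtype.ext ?_⟩⟩
      have hq : IsCyclic (Q ⧸ K) := by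
        have : Fact (Nat.card L).Prime := ⟨hL⟩
        exact isCyclic_of_prime_card (p := Nat.card L) (by rw [← index_eq_card, hidx])
      have h1 : (u : Q) * v * (u : Q)⁻¹ * (v : Q)⁻¹ ∈ H ⊓ K := by
        refine ⟨H.mul_mem (H.mul_mem (H.mul_mem u.2 v.2) (H.inv_mem u.2)) (H.inv_mem v.2), ?_⟩
        show (u : Q) * v * (u : Q)⁻¹ * (v : Q)⁻¹ ∈ K
        rw [← QuotientGroup.eq_one_iff]
        simp only [QuotientGroup.mk_mul, QuotientGroup.mk_inv]
        rw [(IsCyclic.isMulCommutative (α := Q ⧸ K)).is_comm.comm (u : Q ⧸ K) (v : Q ⧸ K)]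
        group
      rw [e, mem_bot, mul_inv_eq_one, mul_inv_eq_iff_eq_mul] at h1
      exact h1
    · refine absurd ?_ hH
      rw [← hsup]
      exact (sup_eq_left.2 (e ▸ inf_le_left)).symm
  · have hle : P ≤ K := by
      intro z hz
      rw [← QuotientGroup.eq_one_iff, ← orderOf_eq_one_iff]
      have h1 : orderOf (z : Q ⧸ K) ∣ r ^ a :=
        (orderOf_map_dvd (QuotientGroup.mk' K) z).trans (hP ▸ (orderOf_coe (⟨z, hz⟩ : P)) ▸ orderOf_dvd_natCard _)
      have h2 : orderOf (z : Q ⧸ K) ∣ Nat.card L := by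
        rw [← hidx, index_eq_card]; exact orderOf_dvd_natCard _
      have h3 : Nat.Coprime (r ^ a) (Nat.card L) := Nat.Coprime.pow_left _ ((Nat.coprime_primes hr hL).2 hne)
      exact Nat.eq_one_of_dvd_one (h3 ▸ Nat.dvd_gcd h1 h2)
    rw [eq_of_le_of_card_ge hle (by rw [hP, ha])]
    exact hKn

end Cfsg.Agent.MaxCentralizer
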