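import Cfsg.Agent.Lib.MaxCentralizer.Core

/-!
# Maximal centralizers: a non-normal centralizer
-/

set_option autoImplicit false

open Subgroup

namespace Cfsg.Agent.MaxCentralizer

universe u

variable {G : Type u} [Group G] {N : Subgroup G} [N.Normal]

/-- Conjugation by `g` on `N`. -/
def conjN (g : G) : N ≃* N := MulAut.conjNormal g

theorem conjN_coe (g : G) (x : N) : ((conjN g x : N) : G) = g * x * g⁻¹ := MulAut.conjNormal_apply g x

theorem mem_cG_conjN {g : G} {x : N} {y : G} : g * y * g⁻¹ ∈ cG (conjN g x) ↔ y ∈ cG x := by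
  rw [mem_centralizer_singleton_iff, mem_centralizer_singleton_iff, conjN_coe]
  refine ⟨fun h => ?_, fun h => ?_⟩
  · have e : g⁻¹ * (g * y * g⁻¹ * (g * x * g⁻¹)) * g = g⁻¹ * (g * x * g⁻¹ * (g * y * g⁻¹)) * g := by rw [h]
    simpa [mul_assoc] using e
  · calc g * y * g⁻¹ * (g * x * g⁻¹) = g * (y * x) * g⁻¹ := by group
      _ = g * (x * y) * g⁻¹ := by rw [h]
      _ = _ := by group

theorem conjN_mem_cN {g : G} (x : N) (hg : g ∈ cG x) {y : N} (hy : y ∈ cN x) : conjN g y ∈ cN x := by
  have hgx : conjN g x = x := Subtype.ext (by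
    rw [conjN_coe, mem_centralizer_singleton_iff.1 hg, mul_inv_cancel_right])
  rw [mem_cN_iff, conjN_coe, ← hgx, mem_cG_conjN]
  exact mem_cN_iff.1 hy

theorem mem_cN_conjN {g : G} {x y : N} : conjN g y ∈ cN (conjN g x) ↔ y ∈ cN x := by
  rw [mem_cN_iff, mem_cN_iff, conjN_coe, mem_cG_conjN]

theorem conjN_mem_center {g : G} {x : N} (hx : x ∈ center N) : conjN g x ∈ center N := by
  rw [mem_center_iff] at hx ⊢
  intro y
  obtain ⟨y, rfl⟩ := (conjN g).surjective y
  rw [← map_mul, ← map_mul, hx y]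

/-- The action of `G` on `N / Z(N)`. -/
noncomputable def act (g : G) : (N ⧸ center N) ≃* (N ⧸ center N) :=
  QuotientGroup.congr (center N) (center N) (conjN g) (by
    refine le_antisymm ?_ fun x hx => ?_
    · rintro _ ⟨x, hx, rfl⟩
      exact conjN_mem_center hx
    · refine ⟨(conjN g).symm x, ?_, (conjN g).apply_symm_apply x⟩
      rw [SetLike.mem_coe, mem_center_iff] at *
      intro y
      exact (conjN g).injective (by rw [map_mul, map_mul, MulEquiv.apply_symm_apply]; exact hx _))

theorem act_mk (g : G) (x : N) : act g (x : N ⧸ center N) = ((conjN g x : N) : N ⧸ center N) := rfl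

theorem sup_centralizer_eq_top {x : N} (h : Hyp N) (hx : x ∉ center N) : cG x ⊔ N = ⊤ := by
  refine (h.coatom hx).2 _ (lt_of_le_of_ne le_sup_left fun e => hx (mem_center_iff.2 fun g =>
    Subtype.ext (mem_centralizer_singleton_iff.1 ((e ▸ mem_sup_right g.2 : (g : G) ∈ cG x)))))

/-- A subgroup normalized by `C_G(x)` and `N` is normal in `G`. -/
theorem normal_of_conj {x : N} (h : Hyp N) (hx : x ∉ center N) {T : Subgroup G}
    (hM : ∀ g ∈ cG x, ∀ t ∈ T, g * t * g⁻¹ ∈ T) (hN : ∀ g ∈ N, ∀ t ∈ T, g * t * g⁻¹ ∈ T) : T.Normal := by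
  refine ⟨fun t ht g => ?_⟩
  obtain ⟨m, hm, n, hn, rfl⟩ := mem_sup_of_normal_right.1 (sup_centralizer_eq_top h hx ▸ mem_top g)
  have := hM m hm _ (hN n hn t ht)
  simpa [mul_assoc] using this

/-- `N / Z(N)` has no proper invariant subgroup between the image of a centralizer and the top. -/
theorem eq_or_eq_top {x : N} (h : Hyp N) (hx : x ∉ center N) {R : Subgroup N}
    (hLR : cN x ≤ R) (hinv : ∀ g ∈ cG x, ∀ r ∈ R, conjN g r ∈ R) : R = cN x ∨ R = ⊤ := by
  set M := cG x
  let T : Subgroup G :=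
    { carrier := {t | ∃ m ∈ M, ∃ r ∈ R, t = m * (r : G)}
      one_mem' := ⟨1, one_mem _, 1, one_mem _, by simp⟩
      mul_mem' := by
        rintro _ _ ⟨m, hm, r, hr, rfl⟩ ⟨m', hm', r', hr', rfl⟩
        refine ⟨m * m', mul_mem hm hm', conjN m'⁻¹ r * r', mul_mem (hinv _ (inv_mem hm') r hr) hr', ?_⟩
        simp [conjN_coe, mul_assoc]
      inv_mem' := by
        rintro _ ⟨m, hm, r, hr, rfl⟩
        refine ⟨m⁻¹, inv_mem hm, conjN m r⁻¹, hinv _ hm _ (inv_mem hr), ?_⟩
        simp [conjN_coe, mul_assoc] }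
  have hMT : M ≤ T := fun m hm => ⟨m, hm, 1, one_mem _, by simp⟩
  rcases eq_or_lt_of_le hMT with e | e
  · left
    refine le_antisymm (fun r hr => ?_) hLR
    rw [mem_cN_iff]
    show (r : G) ∈ M
    rw [e]
    exact ⟨1, one_mem _, r, hr, by simp⟩
  · right
    have hT := (h.coatom hx).2 T e
    refine eq_top_iff.2 fun n _ => ?_
    obtain ⟨m, hm, r, hr, hmr⟩ : (n : G) ∈ T := hT ▸ mem_top _
    have hmN : m ∈ N := by
      have : m = n * (r : G)⁻¹ := by rw [hmr, mul_inv_cancel_right]
      rw [this]; exact N.mul_mem n.2 (N.inv_mem r.2)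
    have hmR : (⟨m, hmN⟩ : N) ∈ R := hLR (mem_cN_iff.2 hm)
    have : n = ⟨m, hmN⟩ * r := Subtype.ext hmr
    rw [this]
    exact R.mul_mem hmR hr

/-- A non-normal centralizer is self-normalizing. -/
theorem normalizer_cN {x : N} (h : Hyp N) (hx : x ∉ center N) (hn : ¬ (cN x).Normal) :
    normalizer (cN x : Set N) = cN x := by
  rcases eq_or_eq_top h hx (R := normalizer (cN x : Set N)) le_normalizer (fun g hg r hr => by
    rw [mem_normalizer_iff] at hr ⊢
    intro y
    obtain ⟨y, rfl⟩ := (conjN g).surjective y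
    rw [← map_inv, ← map_mul, ← map_mul]
    have e : ∀ z, conjN g z ∈ cN x ↔ z ∈ cN x := by
      have hgx : conjN g x = x := Subtype.ext (by
        rw [conjN_coe, mem_centralizer_singleton_iff.1 hg, mul_inv_cancel_right])
      intro z
      conv_lhs => rw [← hgx]
      exact mem_cN_conjN
    rw [e, e]
    exact hr y) with e | e
  · exact e
  · exact absurd (normalizer_eq_top_iff.1 e) hn

variable [Finite G]

theorem normalizer_bar {x : N} (h : Hyp N) (hx : x ∉ center N) (hn : ¬ (cN x).Normal) :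
    normalizer (bar (cN x) : Set (N ⧸ center N)) = bar (cN x) := by
  refine le_antisymm (fun a ha => ?_) le_normalizer
  induction a using QuotientGroup.induction_on with
  | H a =>
    refine mem_bar ?_
    rw [← normalizer_cN h hx hn, mem_normalizer_iff]
    intro y
    have := (mem_normalizer_iff.1 ha) (y : N ⧸ center N)
    rw [← QuotientGroup.mk_inv, ← QuotientGroup.mk_mul, ← QuotientGroup.mk_mul] at this
    exact ⟨fun hy => mem_of_bar (center_le_cN x) (this.1 (mem_bar hy)),
      fun hy => mem_of_bar (center_le_cN x) (this.2 (mem_bar hy))⟩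

theorem bar_eq_of_sylow {p : ℕ} [Fact p.Prime] {x : N} (h : Hyp N) (hx : x ∉ center N)
    (hn : ¬ (cN x).Normal) (hm : PMod p (cN x)) :
    ∃ P : Sylow p (N ⧸ center N), (P : Subgroup (N ⧸ center N)) = bar (cN x) := by
  obtain ⟨P, hP⟩ := (hm.isPGroup Fact.out).exists_le_sylow
  refine ⟨P, ?_⟩
  rcases eq_or_lt_of_le hP with e | e
  · exact e.symm
  · exfalso
    set L := bar (cN x)
    have hne : L.subgroupOf (P : Subgroup (N ⧸ center N)) ≠ ⊤ := fun ht => e.not_ge (subgroupOf_eq_top.1 ht)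
    have hnc : NormalizerCondition (P : Subgroup (N ⧸ center N)) := by
      have := P.2.isNilpotent
      exact normalizerCondition_of_isNilpotent
    obtain ⟨a, ha, ha'⟩ := SetLike.exists_of_lt (hnc _ hne.lt_top)
    refine ha' (mem_subgroupOf.2 ?_)
    refine (normalizer_bar h hx hn).le (mem_normalizer_iff.2 fun y => ?_)
    rw [mem_normalizer_iff] at ha
    constructor
    · intro hy
      exact (ha ⟨y, hP hy⟩).1 hy
    · intro hy
      have hy' : y ∈ (P : Subgroup (N ⧸ center N)) := by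
        have := mul_mem (mul_mem (inv_mem a.2) (hP hy)) a.2
        simpa [mul_assoc] using this
      exact (ha ⟨y, hy'⟩).2 hy

/-- A centralizer that is a `p`-group modulo the centre and contains a non-normal one of the same kind equals it. -/
theorem eq_of_pMod_le {p : ℕ} [Fact p.Prime] {x : N} (h : Hyp N) (hx : x ∉ center N)
    (hn : ¬ (cN x).Normal) (hm : PMod p (cN x)) {K : Subgroup N} (hle : cN x ≤ K) (hK : PMod p K) :
    K = cN x := by
  obtain ⟨P, hP⟩ := bar_eq_of_sylow h hx hn hm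
  have := P.is_maximal' (hK.isPGroup Fact.out) (hP ▸ map_mono hle)
  refine le_antisymm (fun k hk => mem_of_bar (center_le_cN x) ?_) hle
  rw [← hP, ← this]
  exact mem_bar hk

end Cfsg.Agent.MaxCentralizer
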