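import Cfsg.Agent.Lib.MaxCentralizer.NonNormal
import Cfsg.Agent.Lib.PGroup.Basic

/-!
# Maximal centralizers: all centralizers normal
-/

set_option autoImplicit false

open Subgroup

namespace Cfsg.Agent.MaxCentralizer

universe u

variable {G : Type u} [Group G] {N : Subgroup G} [N.Normal] [Finite G]

theorem commute_conj_of_normal {x : N} (hn : (cN x).Normal) (a : N) : Commute x (a * x * a⁻¹) :=
  (mem_centralizer_singleton_iff.1 (hn.conj_mem x (self_mem_cN x) a)).symm

theorem commute_of_normal {p q : ℕ} (hp : p.Prime) (hq : q.Prime) (hpq : p ≠ q) {x y : N}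
    (hxn : (cN x).Normal) (hyn : (cN y).Normal) (hxp : IsPElt p x) (hyq : IsPElt q y) : Commute x y := by
  have hc1 : (x * y * x⁻¹ * y⁻¹) ^ orderOf x = 1 := by
    have h1 : Commute x (y * x⁻¹ * y⁻¹) := by
      have h2 := (commute_conj_of_normal hxn y).inv_right
      have : (y * x * y⁻¹)⁻¹ = y * x⁻¹ * y⁻¹ := by group
      rwa [this] at h2
    rw [show x * y * x⁻¹ * y⁻¹ = x * (y * x⁻¹ * y⁻¹) by group, h1.mul_pow, pow_orderOf_eq_one, one_mul,
      conj_pow, inv_pow, pow_orderOf_eq_one, inv_one, mul_one, mul_inv_cancel]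
  have hc2 : (x * y * x⁻¹ * y⁻¹) ^ orderOf y = 1 := by
    have h1 : Commute (x * y * x⁻¹) y⁻¹ := (commute_conj_of_normal hyn x).symm.inv_right
    rw [h1.mul_pow, conj_pow, pow_orderOf_eq_one, inv_pow, pow_orderOf_eq_one, inv_one, mul_one, mul_one,
      mul_inv_cancel]
  have hd := Nat.eq_one_of_dvd_one ((coprime_of_pElts hp hq hpq hxp hyq) ▸
    Nat.dvd_gcd (orderOf_dvd_of_pow_eq_one hc1) (orderOf_dvd_of_pow_eq_one hc2))
  rw [orderOf_eq_one_iff, mul_inv_eq_one, mul_inv_eq_iff_eq_mul] at hd
  exact hd

/-- If all centralizers in `N` are normal, `N / Z(N)` is elementary abelian. -/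
theorem elementary_of_normal (h : Hyp N) (hall : ∀ x : N, x ∉ center N → (cN x).Normal) :
    ∃ p : ℕ, p.Prime ∧ Cfsg.IsElementaryAbelian p (⊤ : Subgroup (N ⧸ center N)) := by
  by_cases hab : center N = ⊤
  · refine ⟨2, Nat.prime_two, ?_⟩
    have : Subsingleton (N ⧸ center N) := by
      refine subsingleton_of_forall_eq 1 fun a => ?_
      induction a using QuotientGroup.induction_on with
      | H a => exact (QuotientGroup.eq_one_iff a).2 (hab ▸ mem_top a)
    exact ⟨⟨⟨fun a b => Subsingleton.elim _ _⟩⟩, fun a _ => Subsingleton.elim _ _⟩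
  obtain ⟨x₀, -, hx₀⟩ := SetLike.exists_of_lt (lt_top_iff_ne_top.2 hab)
  obtain ⟨p, hp, x, -, hx, hxp, -⟩ := h.exists_primary_eq hx₀
  have hm : PMod p (⊤ : Subgroup N) := by
    intro q hq hqp y _ hyq
    by_contra hy
    have hxy : y ∈ cN x := mem_centralizer_singleton_iff.2
      (commute_of_normal hp hq (Ne.symm hqp) (hall x hx) (hall y hy) hxp hyq).eq.symm
    have e := h.eq_of_primes hp hq (Ne.symm hqp) hx hy hxp hyq hxy
    refine ne_top_of_nc hx (eq_top_iff.2 fun a _ => Transfer.mem_of_forall_primePow fun r hr z _ hz => ?_)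
    by_cases hzc : z ∈ center N
    · exact center_le_cN x hzc
    by_cases hrp : r = p
    · subst hrp
      rw [cN_congr e]
      exact mem_centralizer_singleton_iff.2
        (commute_of_normal hr hq (Ne.symm hqp) (hall z hzc) (hall y hy) hz hyq).eq
    · exact mem_centralizer_singleton_iff.2
        (commute_of_normal hp hr (Ne.symm hrp) (hall x hx) (hall z hzc) hxp hz).eq.symm
  have : Fact p.Prime := ⟨hp⟩
  have hP : IsPGroup p (N ⧸ center N) := by
    intro a
    induction a using QuotientGroup.induction_on with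
    | H a =>
      obtain ⟨k, hk⟩ := hm.exists_pow_mem hp (mem_top a)
      exact ⟨k, (QuotientGroup.eq_one_iff _).2 hk⟩
  set π := QuotientGroup.mk' (center N)
  have hfr : frattini (N ⧸ center N) = ⊥ := by
    refine eq_bot_iff.2 fun a ha => ?_
    induction a using QuotientGroup.induction_on with
    | H a =>
      rw [mem_bot, QuotientGroup.eq_one_iff, mem_center_iff]
      intro y
      by_cases hy : y ∈ center N
      · exact (mem_center_iff.1 hy a).symm
      rcases eq_or_eq_top h hy (R := (bar (cN y) ⊔ frattini (N ⧸ center N)).comap π)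
          (fun z hz => mem_sup_left (mem_bar hz)) (fun g hg r hr => by
            show act g (r : N ⧸ center N) ∈ bar (cN y) ⊔ frattini (N ⧸ center N)
            have hle : bar (cN y) ⊔ frattini (N ⧸ center N) ≤
                (bar (cN y) ⊔ frattini (N ⧸ center N)).comap (act g).toMonoidHom := by
              refine sup_le ?_ ?_
              · rintro _ ⟨z, hz, rfl⟩
                exact mem_sup_left (mem_bar (conjN_mem_cN y hg hz))
              · intro z hz
                refine mem_sup_right ?_
                have := (Subgroup.characteristic_iff_comap_eq.1 (frattini_characteristic (G := N ⧸ center N))) (act g)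
                exact (this.symm ▸ hz : z ∈ (frattini (N ⧸ center N)).comap (act g).toMonoidHom)
            exact hle hr) with e | e
      · have : a ∈ cN y := e ▸ (mem_sup_right ha : a ∈ (bar (cN y) ⊔ frattini (N ⧸ center N)).comap π)
        exact (mem_centralizer_singleton_iff.1 this).symm
      · exfalso
        have h1 : bar (cN y) = ⊤ := frattini_nongenerating (eq_top_iff.2 fun b _ => by
          induction b using QuotientGroup.induction_on with
          | H b => exact (e ▸ mem_top b : b ∈ (bar (cN y) ⊔ frattini (N ⧸ center N)).comap π))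
        exact ne_top_of_nc hy (eq_top_iff.2 fun b _ => mem_of_bar (center_le_cN y) (h1 ▸ mem_top _))
  refine ⟨p, hp, ⟨⟨fun a b => ?_⟩⟩, fun a _ => ?_⟩
  · have h1 := PGroup.commutatorElement_mem_frattini hP (a : N ⧸ center N) b
    rw [hfr, mem_bot, commutatorElement_eq_one_iff_mul_comm] at h1
    exact Subtype.ext h1
  · have h1 := PGroup.pow_mem_frattini hP a
    rwa [hfr, mem_bot] at h1

end Cfsg.Agent.MaxCentralizer
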